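import Cfsg.Agent.LyCover50.Ids

/-!
Relators 73–82 and 84 in the presented Lyons group, and generation by a, b, c, d, z.
-/

set_option autoImplicit false
set_option linter.unusedSimpArgs false
set_option maxRecDepth 100000
set_option maxHeartbeats 2000000

namespace CfsgLib.LyCover50

open Cfsg Cfsg.Spor

/-- the image of a generator -/
def lg (g : Ly.Gen) : Spor.Ly := PresentedGroup.of g

theorem lg_rel {r : FreeGroup Ly.Gen} (h : r ∈ Ly.extra) : FreeGroup.lift lg r = 1 := by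
  have h2 : (FreeGroup.lift lg : FreeGroup Ly.Gen →* Spor.Ly) = PresentedGroup.mk _ :=
    FreeGroup.ext_hom _ _ fun a => FreeGroup.lift_apply_of
  rw [h2]
  exact PresentedGroup.one_of_mem (Or.inr h)

theorem lg_c1 : lg .c1 = (lg .c) := by
  have h := lg_rel (List.getElem_mem (l := Ly.extra) (n := 5) (by decide))
  rw [show Ly.extra[5] = Ly.c1 * (Ly.c⁻¹) from rfl] at h
  simp only [map_mul, map_inv, map_pow, Ly.a, Ly.b, Ly.c, Ly.d, Ly.c1, FreeGroup.lift_apply_of] at h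
  exact mul_inv_eq_one.1 h

theorem lg_c2 : lg .c2 = ((lg .a)⁻¹ * (lg .c) * (lg .a)) := by
  have h := lg_rel (List.getElem_mem (l := Ly.extra) (n := 6) (by decide))
  rw [show Ly.extra[6] = Ly.c2 * ((Ly.a⁻¹ * Ly.c * Ly.a)⁻¹) from rfl] at h
  simp only [map_mul, map_inv, map_pow, Ly.a, Ly.b, Ly.c, Ly.d, Ly.c2, FreeGroup.lift_apply_of] at h
  exact mul_inv_eq_one.1 h

theorem lg_c3 : lg .c3 = ((lg .b)⁻¹ * (lg .c) * (lg .b)) := by
  have h := lg_rel (List.getElem_mem (l := Ly.extra) (n := 7) (by decide))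
  rw [show Ly.extra[7] = Ly.c3 * ((Ly.b⁻¹ * Ly.c * Ly.b)⁻¹) from rfl] at h
  simp only [map_mul, map_inv, map_pow, Ly.a, Ly.b, Ly.c, Ly.d, Ly.c3, FreeGroup.lift_apply_of] at h
  exact mul_inv_eq_one.1 h

theorem lg_c4 : lg .c4 = (((lg .b)⁻¹)⁻¹ * (lg .c) * ((lg .b)⁻¹)) := by
  have h := lg_rel (List.getElem_mem (l := Ly.extra) (n := 8) (by decide))
  rw [show Ly.extra[8] = Ly.c4 * (((Ly.b⁻¹)⁻¹ * Ly.c * (Ly.b⁻¹))⁻¹) from rfl] at h
  simp only [map_mul, map_inv, map_pow, Ly.a, Ly.b, Ly.c, Ly.d, Ly.c4, FreeGroup.lift_apply_of] at h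
  exact mul_inv_eq_one.1 h

theorem lg_c5 : lg .c5 = ((lg .c1)⁻¹ * (lg .c2)⁻¹ * (lg .c1) * (lg .c2)) := by
  have h := lg_rel (List.getElem_mem (l := Ly.extra) (n := 9) (by decide))
  rw [show Ly.extra[9] = Ly.c5 * ((Ly.c1⁻¹ * Ly.c2⁻¹ * Ly.c1 * Ly.c2)⁻¹) from rfl] at h
  simp only [map_mul, map_inv, map_pow, Ly.a, Ly.b, Ly.c, Ly.d, Ly.c5, Ly.c2, Ly.c1, FreeGroup.lift_apply_of] at h
  exact mul_inv_eq_one.1 h

theorem lg_e : lg .e = ((((lg .b) ^ 2)⁻¹) * ((lg .a)⁻¹ * (lg .c1)⁻¹ * (lg .a) * (lg .c1)) * ((lg .a)⁻¹) * (lg .c1) * (lg .a) * (lg .d) * (lg .c1) * (lg .b) * (lg .a) * ((lg .b)⁻¹) * (lg .d) * (lg .c1) * (lg .d)) := by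
  have h := lg_rel (List.getElem_mem (l := Ly.extra) (n := 28) (by decide))
  rw [show Ly.extra[28] = Ly.e * ((((Ly.b ^ 2)⁻¹) * (Ly.a⁻¹ * Ly.c1⁻¹ * Ly.a * Ly.c1) * (Ly.a⁻¹) * Ly.c1 * Ly.a * Ly.d * Ly.c1 * Ly.b * Ly.a * (Ly.b⁻¹) * Ly.d * Ly.c1 * Ly.d)⁻¹) from rfl] at h
  simp only [map_mul, map_inv, map_pow, Ly.a, Ly.b, Ly.c, Ly.d, Ly.e, Ly.c1, FreeGroup.lift_apply_of] at h
  exact mul_inv_eq_one.1 h

theorem lg_a1 : lg .a1 = (lg .a) := by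
  have h := lg_rel (List.getElem_mem (l := Ly.extra) (n := 44) (by decide))
  rw [show Ly.extra[44] = Ly.a1 * (Ly.a⁻¹) from rfl] at h
  simp only [map_mul, map_inv, map_pow, Ly.a, Ly.b, Ly.c, Ly.d, Ly.a1, FreeGroup.lift_apply_of] at h
  exact mul_inv_eq_one.1 h

theorem lg_a2 : lg .a2 = (((lg .b)⁻¹)⁻¹ * (lg .a) * ((lg .b)⁻¹)) := by
  have h := lg_rel (List.getElem_mem (l := Ly.extra) (n := 45) (by decide))
  rw [show Ly.extra[45] = Ly.a2 * (((Ly.b⁻¹)⁻¹ * Ly.a * (Ly.b⁻¹))⁻¹) from rfl] at h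
  simp only [map_mul, map_inv, map_pow, Ly.a, Ly.b, Ly.c, Ly.d, Ly.a2, FreeGroup.lift_apply_of] at h
  exact mul_inv_eq_one.1 h

theorem lg_a3 : lg .a3 = ((((lg .b) ^ 2)⁻¹)⁻¹ * (lg .a) * (((lg .b) ^ 2)⁻¹)) := by
  have h := lg_rel (List.getElem_mem (l := Ly.extra) (n := 46) (by decide))
  rw [show Ly.extra[46] = Ly.a3 * ((((Ly.b ^ 2)⁻¹)⁻¹ * Ly.a * ((Ly.b ^ 2)⁻¹))⁻¹) from rfl] at h
  simp only [map_mul, map_inv, map_pow, Ly.a, Ly.b, Ly.c, Ly.d, Ly.a3, FreeGroup.lift_apply_of] at h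
  exact mul_inv_eq_one.1 h

theorem lg_a4 : lg .a4 = (((lg .b) ^ 2)⁻¹ * (lg .a) * ((lg .b) ^ 2)) := by
  have h := lg_rel (List.getElem_mem (l := Ly.extra) (n := 47) (by decide))
  rw [show Ly.extra[47] = Ly.a4 * (((Ly.b ^ 2)⁻¹ * Ly.a * (Ly.b ^ 2))⁻¹) from rfl] at h
  simp only [map_mul, map_inv, map_pow, Ly.a, Ly.b, Ly.c, Ly.d, Ly.a4, FreeGroup.lift_apply_of] at h
  exact mul_inv_eq_one.1 h

theorem lg_u : lg .u = ((lg .a) ^ 2) := by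
  have h := lg_rel (List.getElem_mem (l := Ly.extra) (n := 48) (by decide))
  rw [show Ly.extra[48] = Ly.u * ((Ly.a ^ 2)⁻¹) from rfl] at h
  simp only [map_mul, map_inv, map_pow, Ly.a, Ly.b, Ly.c, Ly.d, Ly.u, FreeGroup.lift_apply_of] at h
  exact mul_inv_eq_one.1 h

theorem lg_x23 : lg .x23 = (lg .d) := by
  have h := lg_rel (List.getElem_mem (l := Ly.extra) (n := 49) (by decide))
  rw [show Ly.extra[49] = Ly.x23 * (Ly.d⁻¹) from rfl] at h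
  simp only [map_mul, map_inv, map_pow, Ly.a, Ly.b, Ly.c, Ly.d, Ly.x23, FreeGroup.lift_apply_of] at h
  exact mul_inv_eq_one.1 h

theorem lg_x24 : lg .x24 = ((lg .d)⁻¹) := by
  have h := lg_rel (List.getElem_mem (l := Ly.extra) (n := 50) (by decide))
  rw [show Ly.extra[50] = Ly.x24 * ((Ly.d⁻¹)⁻¹) from rfl] at h
  simp only [map_mul, map_inv, map_pow, Ly.a, Ly.b, Ly.c, Ly.d, Ly.x24, FreeGroup.lift_apply_of] at h
  exact mul_inv_eq_one.1 h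

theorem lg_x25 : lg .x25 = (((lg .b) ^ 2) * ((lg .a)⁻¹) * ((lg .b)⁻¹) * ((lg .a)⁻¹) * ((lg .b) ^ 2) * ((lg .c)⁻¹) * (lg .a) * (lg .c) * ((lg .a)⁻¹) * ((lg .c)⁻¹) * (lg .d) * ((lg .c)⁻¹) * ((lg .b) ^ 2) * ((lg .a)⁻¹) * (lg .c) * (lg .b)) := by
  have h := lg_rel (List.getElem_mem (l := Ly.extra) (n := 51) (by decide))
  rw [show Ly.extra[51] = Ly.x25 * (((Ly.b ^ 2) * (Ly.a⁻¹) * (Ly.b⁻¹) * (Ly.a⁻¹) * (Ly.b ^ 2) * (Ly.c⁻¹) * Ly.a * Ly.c * (Ly.a⁻¹) * (Ly.c⁻¹) * Ly.d * (Ly.c⁻¹) * (Ly.b ^ 2) * (Ly.a⁻¹) * Ly.c * Ly.b)⁻¹) from rfl] at h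
  simp only [map_mul, map_inv, map_pow, Ly.a, Ly.b, Ly.c, Ly.d, Ly.x25, FreeGroup.lift_apply_of] at h
  exact mul_inv_eq_one.1 h

theorem lg_x29 : lg .x29 = ((lg .a) * (lg .b) * ((lg .a)⁻¹) * ((lg .b) ^ 2) * ((lg .a)⁻¹) * ((lg .b) ^ 2) * ((lg .c)⁻¹) * (lg .a) * (lg .c) * (lg .b) * (lg .c) * ((lg .b)⁻¹) * (lg .d) * (lg .c) * (((lg .b) ^ 2)⁻¹) * (lg .d) * (lg .c) * (lg .b) * (lg .c)) := by
  have h := lg_rel (List.getElem_mem (l := Ly.extra) (n := 52) (by decide))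
  rw [show Ly.extra[52] = Ly.x29 * ((Ly.a * Ly.b * (Ly.a⁻¹) * (Ly.b ^ 2) * (Ly.a⁻¹) * (Ly.b ^ 2) * (Ly.c⁻¹) * Ly.a * Ly.c * Ly.b * Ly.c * (Ly.b⁻¹) * Ly.d * Ly.c * ((Ly.b ^ 2)⁻¹) * Ly.d * Ly.c * Ly.b * Ly.c)⁻¹) from rfl] at h
  simp only [map_mul, map_inv, map_pow, Ly.a, Ly.b, Ly.c, Ly.d, Ly.x29, FreeGroup.lift_apply_of] at h
  exact mul_inv_eq_one.1 h

theorem lg_x47 : lg .x47 = (((lg .c)⁻¹) * ((lg .d)⁻¹) * ((lg .a)⁻¹) * ((lg .c)⁻¹) * ((lg .a)⁻¹) * (lg .b) * ((lg .c)⁻¹) * ((lg .d)⁻¹)) := by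
  have h := lg_rel (List.getElem_mem (l := Ly.extra) (n := 53) (by decide))
  rw [show Ly.extra[53] = Ly.x47 * (((Ly.c⁻¹) * (Ly.d⁻¹) * (Ly.a⁻¹) * (Ly.c⁻¹) * (Ly.a⁻¹) * Ly.b * (Ly.c⁻¹) * (Ly.d⁻¹))⁻¹) from rfl] at h
  simp only [map_mul, map_inv, map_pow, Ly.a, Ly.b, Ly.c, Ly.d, Ly.x47, FreeGroup.lift_apply_of] at h
  exact mul_inv_eq_one.1 h

theorem lg_x96 : lg .x96 = ((lg .b) * (lg .d)) := by
  have h := lg_rel (List.getElem_mem (l := Ly.extra) (n := 54) (by decide))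
  rw [show Ly.extra[54] = Ly.x96 * ((Ly.b * Ly.d)⁻¹) from rfl] at h
  simp only [map_mul, map_inv, map_pow, Ly.a, Ly.b, Ly.c, Ly.d, Ly.x96, FreeGroup.lift_apply_of] at h
  exact mul_inv_eq_one.1 h

theorem lg_x129 : lg .x129 = (((lg .d)⁻¹) * ((lg .b)⁻¹)) := by
  have h := lg_rel (List.getElem_mem (l := Ly.extra) (n := 55) (by decide))
  rw [show Ly.extra[55] = Ly.x129 * (((Ly.d⁻¹) * (Ly.b⁻¹))⁻¹) from rfl] at h
  simp only [map_mul, map_inv, map_pow, Ly.a, Ly.b, Ly.c, Ly.d, Ly.x129, FreeGroup.lift_apply_of] at h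
  exact mul_inv_eq_one.1 h

theorem lg_x162 : lg .x162 = (((lg .a)⁻¹) * ((lg .b)⁻¹) * ((lg .a)⁻¹) * (lg .b) * ((lg .c)⁻¹) * ((lg .b)⁻¹) * (lg .a) * ((lg .c)⁻¹) * (lg .b) * (lg .a)) := by
  have h := lg_rel (List.getElem_mem (l := Ly.extra) (n := 56) (by decide))
  rw [show Ly.extra[56] = Ly.x162 * (((Ly.a⁻¹) * (Ly.b⁻¹) * (Ly.a⁻¹) * Ly.b * (Ly.c⁻¹) * (Ly.b⁻¹) * Ly.a * (Ly.c⁻¹) * Ly.b * Ly.a)⁻¹) from rfl] at h
  simp only [map_mul, map_inv, map_pow, Ly.a, Ly.b, Ly.c, Ly.d, Ly.x162, FreeGroup.lift_apply_of] at h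
  exact mul_inv_eq_one.1 h

theorem lg_x163 : lg .x163 = ((((lg .b) ^ 2)⁻¹) * (lg .a) * (lg .c) * ((lg .a)⁻¹) * (lg .b) * (lg .c) * (lg .b)) := by
  have h := lg_rel (List.getElem_mem (l := Ly.extra) (n := 57) (by decide))
  rw [show Ly.extra[57] = Ly.x163 * ((((Ly.b ^ 2)⁻¹) * Ly.a * Ly.c * (Ly.a⁻¹) * Ly.b * Ly.c * Ly.b)⁻¹) from rfl] at h
  simp only [map_mul, map_inv, map_pow, Ly.a, Ly.b, Ly.c, Ly.d, Ly.x163, FreeGroup.lift_apply_of] at h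
  exact mul_inv_eq_one.1 h

theorem lg_x164 : lg .x164 = (((lg .a)⁻¹) * ((lg .b)⁻¹) * ((lg .a)⁻¹) * (lg .c) * (lg .a) * (lg .b) * (lg .a)) := by
  have h := lg_rel (List.getElem_mem (l := Ly.extra) (n := 58) (by decide))
  rw [show Ly.extra[58] = Ly.x164 * (((Ly.a⁻¹) * (Ly.b⁻¹) * (Ly.a⁻¹) * Ly.c * Ly.a * Ly.b * Ly.a)⁻¹) from rfl] at h
  simp only [map_mul, map_inv, map_pow, Ly.a, Ly.b, Ly.c, Ly.d, Ly.x164, FreeGroup.lift_apply_of] at h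
  exact mul_inv_eq_one.1 h

theorem lg_x165 : lg .x165 = (((lg .b)⁻¹) * ((lg .a)⁻¹) * (lg .b) * (lg .c) * ((lg .b)⁻¹) * (lg .a) * (lg .b)) := by
  have h := lg_rel (List.getElem_mem (l := Ly.extra) (n := 59) (by decide))
  rw [show Ly.extra[59] = Ly.x165 * (((Ly.b⁻¹) * (Ly.a⁻¹) * Ly.b * Ly.c * (Ly.b⁻¹) * Ly.a * Ly.b)⁻¹) from rfl] at h
  simp only [map_mul, map_inv, map_pow, Ly.a, Ly.b, Ly.c, Ly.d, Ly.x165, FreeGroup.lift_apply_of] at h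
  exact mul_inv_eq_one.1 h

theorem lg_x166 : lg .x166 = (((lg .b) ^ 2) * ((lg .a)⁻¹) * ((lg .b)⁻¹) * (lg .c) * (lg .b) * (lg .a) * (lg .c) * (((lg .b) ^ 2)⁻¹) * ((lg .c)⁻¹)) := by
  have h := lg_rel (List.getElem_mem (l := Ly.extra) (n := 60) (by decide))
  rw [show Ly.extra[60] = Ly.x166 * (((Ly.b ^ 2) * (Ly.a⁻¹) * (Ly.b⁻¹) * Ly.c * Ly.b * Ly.a * Ly.c * ((Ly.b ^ 2)⁻¹) * (Ly.c⁻¹))⁻¹) from rfl] at h
  simp only [map_mul, map_inv, map_pow, Ly.a, Ly.b, Ly.c, Ly.d, Ly.x166, FreeGroup.lift_apply_of] at h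
  exact mul_inv_eq_one.1 h

theorem lg_x167 : lg .x167 = (((lg .a) ^ 3)⁻¹) := by
  have h := lg_rel (List.getElem_mem (l := Ly.extra) (n := 61) (by decide))
  rw [show Ly.extra[61] = Ly.x167 * (((Ly.a ^ 3)⁻¹)⁻¹) from rfl] at h
  simp only [map_mul, map_inv, map_pow, Ly.a, Ly.b, Ly.c, Ly.d, Ly.x167, FreeGroup.lift_apply_of] at h
  exact mul_inv_eq_one.1 h

theorem lg_x168 : lg .x168 = ((lg .b) * ((lg .a)⁻¹) * ((lg .b)⁻¹) * (((lg .a) ^ 2)⁻¹)) := by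
  have h := lg_rel (List.getElem_mem (l := Ly.extra) (n := 62) (by decide))
  rw [show Ly.extra[62] = Ly.x168 * ((Ly.b * (Ly.a⁻¹) * (Ly.b⁻¹) * ((Ly.a ^ 2)⁻¹))⁻¹) from rfl] at h
  simp only [map_mul, map_inv, map_pow, Ly.a, Ly.b, Ly.c, Ly.d, Ly.x168, FreeGroup.lift_apply_of] at h
  exact mul_inv_eq_one.1 h

theorem lg_x169 : lg .x169 = ((lg .a) * ((lg .b) ^ 2) * (lg .a) * (((lg .b) ^ 2)⁻¹) * ((lg .a)⁻¹)) := by
  have h := lg_rel (List.getElem_mem (l := Ly.extra) (n := 63) (by decide))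
  rw [show Ly.extra[63] = Ly.x169 * ((Ly.a * (Ly.b ^ 2) * Ly.a * ((Ly.b ^ 2)⁻¹) * (Ly.a⁻¹))⁻¹) from rfl] at h
  simp only [map_mul, map_inv, map_pow, Ly.a, Ly.b, Ly.c, Ly.d, Ly.x169, FreeGroup.lift_apply_of] at h
  exact mul_inv_eq_one.1 h

theorem lg_x364 : lg .x364 = (((lg .a)⁻¹) * (lg .d) * ((lg .b)⁻¹) * ((lg .c)⁻¹) * ((lg .a)⁻¹) * (lg .b) * ((lg .c)⁻¹) * ((lg .d)⁻¹) * (lg .b) * ((lg .c)⁻¹) * ((lg .b)⁻¹) * ((lg .a)⁻¹) * ((lg .c)⁻¹) * (lg .a) * ((lg .b)⁻¹) * (lg .a) * (lg .b) * (lg .a) * ((lg .b)⁻¹)) := by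
  have h := lg_rel (List.getElem_mem (l := Ly.extra) (n := 64) (by decide))
  rw [show Ly.extra[64] = Ly.x364 * (((Ly.a⁻¹) * Ly.d * (Ly.b⁻¹) * (Ly.c⁻¹) * (Ly.a⁻¹) * Ly.b * (Ly.c⁻¹) * (Ly.d⁻¹) * Ly.b * (Ly.c⁻¹) * (Ly.b⁻¹) * (Ly.a⁻¹) * (Ly.c⁻¹) * Ly.a * (Ly.b⁻¹) * Ly.a * Ly.b * Ly.a * (Ly.b⁻¹))⁻¹) from rfl] at h
  simp only [map_mul, map_inv, map_pow, Ly.a, Ly.b, Ly.c, Ly.d, Ly.x364, FreeGroup.lift_apply_of] at h
  exact mul_inv_eq_one.1 h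

theorem lg_x365 : lg .x365 = ((lg .a) * (((lg .b) ^ 2)⁻¹) * ((lg .a)⁻¹) * (lg .c) * (lg .b) * ((lg .c)⁻¹) * (lg .b) * ((lg .a)⁻¹) * (((lg .c) ^ 2)⁻¹) * (lg .d) * (lg .c) * (lg .a) * (lg .c) * ((lg .a)⁻¹) * (lg .c) * ((lg .b)⁻¹) * ((lg .d)⁻¹)) := by
  have h := lg_rel (List.getElem_mem (l := Ly.extra) (n := 65) (by decide))
  rw [show Ly.extra[65] = Ly.x365 * ((Ly.a * ((Ly.b ^ 2)⁻¹) * (Ly.a⁻¹) * Ly.c * Ly.b * (Ly.c⁻¹) * Ly.b * (Ly.a⁻¹) * ((Ly.c ^ 2)⁻¹) * Ly.d * Ly.c * Ly.a * Ly.c * (Ly.a⁻¹) * Ly.c * (Ly.b⁻¹) * (Ly.d⁻¹))⁻¹) from rfl] at h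
  simp only [map_mul, map_inv, map_pow, Ly.a, Ly.b, Ly.c, Ly.d, Ly.x365, FreeGroup.lift_apply_of] at h
  exact mul_inv_eq_one.1 h

theorem lg_x366 : lg .x366 = ((lg .b) * (lg .a) * ((lg .b)⁻¹) * ((lg .a)⁻¹) * (((lg .b) ^ 2)⁻¹) * ((lg .a)⁻¹) * ((lg .b)⁻¹) * (lg .c) * ((lg .b) ^ 2) * (lg .c) * (lg .b) * (lg .d) * (lg .c) * (((lg .b) ^ 2)⁻¹) * (lg .d) * (lg .c) * (lg .b) * (lg .c)) := by
  have h := lg_rel (List.getElem_mem (l := Ly.extra) (n := 66) (by decide))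
  rw [show Ly.extra[66] = Ly.x366 * ((Ly.b * Ly.a * (Ly.b⁻¹) * (Ly.a⁻¹) * ((Ly.b ^ 2)⁻¹) * (Ly.a⁻¹) * (Ly.b⁻¹) * Ly.c * (Ly.b ^ 2) * Ly.c * Ly.b * Ly.d * Ly.c * ((Ly.b ^ 2)⁻¹) * Ly.d * Ly.c * Ly.b * Ly.c)⁻¹) from rfl] at h
  simp only [map_mul, map_inv, map_pow, Ly.a, Ly.b, Ly.c, Ly.d, Ly.x366, FreeGroup.lift_apply_of] at h
  exact mul_inv_eq_one.1 h

theorem lg_x367 : lg .x367 = (((lg .c)⁻¹) * ((lg .b)⁻¹) * ((lg .c)⁻¹) * ((lg .d)⁻¹) * ((lg .b) ^ 2) * ((lg .c)⁻¹) * ((lg .d)⁻¹) * ((lg .b)⁻¹) * ((lg .c)⁻¹) * (((lg .b) ^ 2)⁻¹) * ((lg .c)⁻¹) * (lg .b) * (lg .a) * ((lg .b) ^ 2) * (lg .a) * (lg .b) * ((lg .a)⁻¹) * ((lg .b)⁻¹)) := by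
  have h := lg_rel (List.getElem_mem (l := Ly.extra) (n := 67) (by decide))
  rw [show Ly.extra[67] = Ly.x367 * (((Ly.c⁻¹) * (Ly.b⁻¹) * (Ly.c⁻¹) * (Ly.d⁻¹) * (Ly.b ^ 2) * (Ly.c⁻¹) * (Ly.d⁻¹) * (Ly.b⁻¹) * (Ly.c⁻¹) * ((Ly.b ^ 2)⁻¹) * (Ly.c⁻¹) * Ly.b * Ly.a * (Ly.b ^ 2) * Ly.a * Ly.b * (Ly.a⁻¹) * (Ly.b⁻¹))⁻¹) from rfl] at h
  simp only [map_mul, map_inv, map_pow, Ly.a, Ly.b, Ly.c, Ly.d, Ly.x367, FreeGroup.lift_apply_of] at h
  exact mul_inv_eq_one.1 h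

theorem lg_x368 : lg .x368 = (((lg .a)⁻¹) * ((lg .c)⁻¹) * ((lg .d)⁻¹) * (lg .a) * ((lg .c)⁻¹) * ((lg .b)⁻¹) * (lg .a) * ((lg .c)⁻¹) * ((lg .d)⁻¹) * ((lg .a)⁻¹) * ((lg .c)⁻¹) * (lg .a) * (lg .c) * (((lg .b) ^ 2)⁻¹) * ((lg .c)⁻¹) * ((lg .b)⁻¹) * ((lg .a)⁻¹) * (((lg .b) ^ 2)⁻¹)) := by
  have h := lg_rel (List.getElem_mem (l := Ly.extra) (n := 68) (by decide))
  rw [show Ly.extra[68] = Ly.x368 * (((Ly.a⁻¹) * (Ly.c⁻¹) * (Ly.d⁻¹) * Ly.a * (Ly.c⁻¹) * (Ly.b⁻¹) * Ly.a * (Ly.c⁻¹) * (Ly.d⁻¹) * (Ly.a⁻¹) * (Ly.c⁻¹) * Ly.a * Ly.c * ((Ly.b ^ 2)⁻¹) * (Ly.c⁻¹) * (Ly.b⁻¹) * (Ly.a⁻¹) * ((Ly.b ^ 2)⁻¹))⁻¹) from rfl] at h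
  simp only [map_mul, map_inv, map_pow, Ly.a, Ly.b, Ly.c, Ly.d, Ly.x368, FreeGroup.lift_apply_of] at h
  exact mul_inv_eq_one.1 h

theorem lg_x369 : lg .x369 = (((lg .a)⁻¹) * ((lg .c)⁻¹) * ((lg .d)⁻¹) * (lg .b) * ((lg .a)⁻¹) * ((lg .b)⁻¹) * ((lg .c)⁻¹) * ((lg .d)⁻¹) * (lg .b) * ((lg .a)⁻¹) * ((lg .b)⁻¹) * ((lg .c)⁻¹) * ((lg .b)⁻¹) * (lg .a) * (((lg .b) ^ 2)⁻¹) * (lg .a) * ((lg .b)⁻¹)) := by
  have h := lg_rel (List.getElem_mem (l := Ly.extra) (n := 69) (by decide))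
  rw [show Ly.extra[69] = Ly.x369 * (((Ly.a⁻¹) * (Ly.c⁻¹) * (Ly.d⁻¹) * Ly.b * (Ly.a⁻¹) * (Ly.b⁻¹) * (Ly.c⁻¹) * (Ly.d⁻¹) * Ly.b * (Ly.a⁻¹) * (Ly.b⁻¹) * (Ly.c⁻¹) * (Ly.b⁻¹) * Ly.a * ((Ly.b ^ 2)⁻¹) * Ly.a * (Ly.b⁻¹))⁻¹) from rfl] at h
  simp only [map_mul, map_inv, map_pow, Ly.a, Ly.b, Ly.c, Ly.d, Ly.x369, FreeGroup.lift_apply_of] at h
  exact mul_inv_eq_one.1 h

theorem lg_x370 : lg .x370 = (((lg .d)⁻¹) * (lg .a) * (lg .c) * (lg .b) * (lg .c) * ((lg .a)⁻¹) * ((lg .c)⁻¹) * ((lg .d)⁻¹) * (lg .a) * ((lg .b)⁻¹) * ((lg .a)⁻¹) * (lg .c) * ((lg .a)⁻¹) * (((lg .b) ^ 2)⁻¹) * ((lg .a)⁻¹) * (lg .b) * ((lg .a)⁻¹)) := by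
  have h := lg_rel (List.getElem_mem (l := Ly.extra) (n := 70) (by decide))
  rw [show Ly.extra[70] = Ly.x370 * (((Ly.d⁻¹) * Ly.a * Ly.c * Ly.b * Ly.c * (Ly.a⁻¹) * (Ly.c⁻¹) * (Ly.d⁻¹) * Ly.a * (Ly.b⁻¹) * (Ly.a⁻¹) * Ly.c * (Ly.a⁻¹) * ((Ly.b ^ 2)⁻¹) * (Ly.a⁻¹) * Ly.b * (Ly.a⁻¹))⁻¹) from rfl] at h
  simp only [map_mul, map_inv, map_pow, Ly.a, Ly.b, Ly.c, Ly.d, Ly.x370, FreeGroup.lift_apply_of] at h
  exact mul_inv_eq_one.1 h

theorem lg_x371 : lg .x371 = (((lg .c)⁻¹) * ((lg .a)⁻¹) * (lg .c) * (lg .b) * ((lg .c)⁻¹) * ((lg .d)⁻¹) * (lg .c) * ((lg .a)⁻¹) * (lg .c) * (lg .a) * (lg .c) * ((lg .b)⁻¹) * ((lg .a)⁻¹) * ((lg .b)⁻¹) * ((lg .a)⁻¹) * (lg .b)) := by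
  have h := lg_rel (List.getElem_mem (l := Ly.extra) (n := 71) (by decide))
  rw [show Ly.extra[71] = Ly.x371 * (((Ly.c⁻¹) * (Ly.a⁻¹) * Ly.c * Ly.b * (Ly.c⁻¹) * (Ly.d⁻¹) * Ly.c * (Ly.a⁻¹) * Ly.c * Ly.a * Ly.c * (Ly.b⁻¹) * (Ly.a⁻¹) * (Ly.b⁻¹) * (Ly.a⁻¹) * Ly.b)⁻¹) from rfl] at h
  simp only [map_mul, map_inv, map_pow, Ly.a, Ly.b, Ly.c, Ly.d, Ly.x371, FreeGroup.lift_apply_of] at h
  exact mul_inv_eq_one.1 h

theorem lg_c2_word : lg .c2 = (wc2 (lg .a) (lg .c)) := by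
  rw [lg_c2]
  rfl

theorem lg_c3_word : lg .c3 = (wc3 (lg .b) (lg .c)) := by
  rw [lg_c3]
  rfl

theorem lg_c4_word : lg .c4 = (wc4 (lg .b) (lg .c)) := by
  rw [lg_c4]
  rfl

theorem lg_c5_word : lg .c5 = (wc5 (lg .a) (lg .c)) := by
  rw [lg_c5, lg_c2, lg_c1]
  rfl

theorem lg_a2_word : lg .a2 = (wa2 (lg .a) (lg .b)) := by
  rw [lg_a2]
  rfl

theorem lg_a3_word : lg .a3 = (wa3 (lg .a) (lg .b)) := by
  rw [lg_a3]
  rfl

theorem lg_a4_word : lg .a4 = (wa4 (lg .a) (lg .b)) := by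
  rw [lg_a4]
  rfl

theorem lg_u_word : lg .u = (wu (lg .a)) := by
  rw [lg_u]
  rfl

theorem lg_x162_word : lg .x162 = (wx162 (lg .a) (lg .b) (lg .c)) := by
  rw [lg_x162]
  rfl

theorem lg_x163_word : lg .x163 = (wx163 (lg .a) (lg .b) (lg .c)) := by
  rw [lg_x163]
  rfl

theorem lg_x164_word : lg .x164 = (wx164 (lg .a) (lg .b) (lg .c)) := by
  rw [lg_x164]
  rfl

theorem lg_x165_word : lg .x165 = (wx165 (lg .a) (lg .b) (lg .c)) := by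
  rw [lg_x165]
  rfl

theorem lg_x166_word : lg .x166 = (wx166 (lg .a) (lg .b) (lg .c)) := by
  rw [lg_x166]
  rfl

theorem lg_x167_word : lg .x167 = (wx167 (lg .a)) := by
  rw [lg_x167]
  rfl

theorem lg_x168_word : lg .x168 = (wx168 (lg .a) (lg .b)) := by
  rw [lg_x168]
  rfl

theorem lg_x169_word : lg .x169 = (wx169 (lg .a) (lg .b)) := by
  rw [lg_x169]
  rfl

theorem lg_x29_word : lg .x29 = (wx29 (lg .a) (lg .b) (lg .c) (lg .d)) := by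
  rw [lg_x29]
  rfl

theorem lg_x369_word : lg .x369 = (wx369 (lg .a) (lg .b) (lg .c) (lg .d)) := by
  rw [lg_x369]
  rfl

/-- relators 73–82 and 84 hold in the group -/
theorem ly_zrels :
    ZRels (lg .a) (lg .b) (lg .c) (lg .d) (lg .z) := by
  have h : ∀ r ∈ Ly.extra, FreeGroup.lift lg r = 1 := fun r => lg_rel
  constructor
  · have e := h _ (List.getElem_mem (l := Ly.extra) (n := 72) (by decide))
    rw [show Ly.extra[72] = (Ly.z⁻¹ * Ly.c1 * Ly.z) * (Ly.x162⁻¹) from rfl] at e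
    simp only [map_mul, map_inv, map_pow, Ly.c1, Ly.x162, Ly.z, FreeGroup.lift_apply_of] at e
    simp only [lg_c1, lg_x162_word, wu] at e
    exact mul_inv_eq_one.1 e
  · have e := h _ (List.getElem_mem (l := Ly.extra) (n := 73) (by decide))
    rw [show Ly.extra[73] = (Ly.z⁻¹ * Ly.c2 * Ly.z) * (Ly.x163⁻¹) from rfl] at e
    simp only [map_mul, map_inv, map_pow, Ly.c2, Ly.x163, Ly.z, FreeGroup.lift_apply_of] at e
    simp only [lg_c2_word, lg_x163_word, wu] at e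
    exact mul_inv_eq_one.1 e
  · have e := h _ (List.getElem_mem (l := Ly.extra) (n := 74) (by decide))
    rw [show Ly.extra[74] = (Ly.z⁻¹ * Ly.c3 * Ly.z) * (Ly.x164⁻¹) from rfl] at e
    simp only [map_mul, map_inv, map_pow, Ly.c3, Ly.x164, Ly.z, FreeGroup.lift_apply_of] at e
    simp only [lg_c3_word, lg_x164_word, wu] at e
    exact mul_inv_eq_one.1 e
  · have e := h _ (List.getElem_mem (l := Ly.extra) (n := 75) (by decide))
    rw [show Ly.extra[75] = (Ly.z⁻¹ * Ly.c4 * Ly.z) * (Ly.x165⁻¹) from rfl] at e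
    simp only [map_mul, map_inv, map_pow, Ly.c4, Ly.x165, Ly.z, FreeGroup.lift_apply_of] at e
    simp only [lg_c4_word, lg_x165_word, wu] at e
    exact mul_inv_eq_one.1 e
  · have e := h _ (List.getElem_mem (l := Ly.extra) (n := 76) (by decide))
    rw [show Ly.extra[76] = (Ly.z⁻¹ * Ly.c5 * Ly.z) * (Ly.x166⁻¹) from rfl] at e
    simp only [map_mul, map_inv, map_pow, Ly.c5, Ly.x166, Ly.z, FreeGroup.lift_apply_of] at e
    simp only [lg_c5_word, lg_x166_word, wu] at e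
    exact mul_inv_eq_one.1 e
  · have e := h _ (List.getElem_mem (l := Ly.extra) (n := 77) (by decide))
    rw [show Ly.extra[77] = (Ly.z⁻¹ * Ly.a1 * Ly.z) * (Ly.x167⁻¹) from rfl] at e
    simp only [map_mul, map_inv, map_pow, Ly.a1, Ly.x167, Ly.z, FreeGroup.lift_apply_of] at e
    simp only [lg_a1, lg_x167_word, wu] at e
    exact mul_inv_eq_one.1 e
  · have e := h _ (List.getElem_mem (l := Ly.extra) (n := 78) (by decide))
    rw [show Ly.extra[78] = (Ly.z⁻¹ * Ly.a2 * Ly.z) * (Ly.x168⁻¹) from rfl] at e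
    simp only [map_mul, map_inv, map_pow, Ly.a2, Ly.x168, Ly.z, FreeGroup.lift_apply_of] at e
    simp only [lg_a2_word, lg_x168_word, wu] at e
    exact mul_inv_eq_one.1 e
  · have e := h _ (List.getElem_mem (l := Ly.extra) (n := 79) (by decide))
    rw [show Ly.extra[79] = (Ly.z⁻¹ * Ly.a3 * Ly.z) * (Ly.x169⁻¹) from rfl] at e
    simp only [map_mul, map_inv, map_pow, Ly.a3, Ly.x169, Ly.z, FreeGroup.lift_apply_of] at e
    simp only [lg_a3_word, lg_x169_word, wu] at e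
    exact mul_inv_eq_one.1 e
  · have e := h _ (List.getElem_mem (l := Ly.extra) (n := 80) (by decide))
    rw [show Ly.extra[80] = (Ly.z ^ 2) * (Ly.u⁻¹) from rfl] at e
    simp only [map_mul, map_inv, map_pow, Ly.u, Ly.z, FreeGroup.lift_apply_of] at e
    simp only [lg_u_word, wu] at e
    exact mul_inv_eq_one.1 e
  · have e := h _ (List.getElem_mem (l := Ly.extra) (n := 81) (by decide))
    rw [show Ly.extra[81] = ((Ly.a4 * Ly.z) ^ 3) * Ly.u from rfl] at e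
    simp only [map_mul, map_inv, map_pow, Ly.a4, Ly.u, Ly.z, FreeGroup.lift_apply_of] at e
    simp only [lg_a4_word, lg_u_word, wu] at e
    exact e
  · have e := h _ (List.getElem_mem (l := Ly.extra) (n := 83) (by decide))
    rw [show Ly.extra[83] = (Ly.z⁻¹) * Ly.x24 * (Ly.z⁻¹) * Ly.x369 * Ly.z * Ly.x23 * Ly.z * Ly.x29 from rfl] at e
    simp only [map_mul, map_inv, map_pow, Ly.x24, Ly.x23, Ly.x369, Ly.x29, Ly.z, FreeGroup.lift_apply_of] at e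
    simp only [lg_x24, lg_x23, lg_x369_word, lg_x29_word, wu] at e
    exact e

/-- the group is generated by a, b, c, d, z -/
theorem ly_closure :
    Subgroup.closure ({lg .a, lg .b, lg .c, lg .d, lg .z} : Set Spor.Ly) = ⊤ := by
  have ha : lg .a ∈ Subgroup.closure ({lg .a, lg .b, lg .c, lg .d, lg .z} : Set Spor.Ly) := Subgroup.subset_closure (by simp)
  have hb : lg .b ∈ Subgroup.closure ({lg .a, lg .b, lg .c, lg .d, lg .z} : Set Spor.Ly) := Subgroup.subset_closure (by simp)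
  have hc : lg .c ∈ Subgroup.closure ({lg .a, lg .b, lg .c, lg .d, lg .z} : Set Spor.Ly) := Subgroup.subset_closure (by simp)
  have hd : lg .d ∈ Subgroup.closure ({lg .a, lg .b, lg .c, lg .d, lg .z} : Set Spor.Ly) := Subgroup.subset_closure (by simp)
  have hz : lg .z ∈ Subgroup.closure ({lg .a, lg .b, lg .c, lg .d, lg .z} : Set Spor.Ly) := Subgroup.subset_closure (by simp)
  have hc1 : lg .c1 ∈ Subgroup.closure ({lg .a, lg .b, lg .c, lg .d, lg .z} : Set Spor.Ly) := by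
    rw [lg_c1]
    repeat' first | exact hc | apply mul_mem | apply inv_mem | apply pow_mem
  have hc2 : lg .c2 ∈ Subgroup.closure ({lg .a, lg .b, lg .c, lg .d, lg .z} : Set Spor.Ly) := by
    rw [lg_c2]
    repeat' first | exact ha | exact hc | apply mul_mem | apply inv_mem | apply pow_mem
  have hc3 : lg .c3 ∈ Subgroup.closure ({lg .a, lg .b, lg .c, lg .d, lg .z} : Set Spor.Ly) := by
    rw [lg_c3]
    repeat' first | exact hb | exact hc | apply mul_mem | apply inv_mem | apply pow_mem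
  have hc4 : lg .c4 ∈ Subgroup.closure ({lg .a, lg .b, lg .c, lg .d, lg .z} : Set Spor.Ly) := by
    rw [lg_c4]
    repeat' first | exact hb | exact hc | apply mul_mem | apply inv_mem | apply pow_mem
  have hc5 : lg .c5 ∈ Subgroup.closure ({lg .a, lg .b, lg .c, lg .d, lg .z} : Set Spor.Ly) := by
    rw [lg_c5]
    repeat' first | exact hc1 | exact hc2 | apply mul_mem | apply inv_mem | apply pow_mem
  have he : lg .e ∈ Subgroup.closure ({lg .a, lg .b, lg .c, lg .d, lg .z} : Set Spor.Ly) := by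
    rw [lg_e]
    repeat' first | exact ha | exact hb | exact hc1 | exact hd | apply mul_mem | apply inv_mem | apply pow_mem
  have ha1 : lg .a1 ∈ Subgroup.closure ({lg .a, lg .b, lg .c, lg .d, lg .z} : Set Spor.Ly) := by
    rw [lg_a1]
    repeat' first | exact ha | apply mul_mem | apply inv_mem | apply pow_mem
  have ha2 : lg .a2 ∈ Subgroup.closure ({lg .a, lg .b, lg .c, lg .d, lg .z} : Set Spor.Ly) := by
    rw [lg_a2]
    repeat' first | exact ha | exact hb | apply mul_mem | apply inv_mem | apply pow_mem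
  have ha3 : lg .a3 ∈ Subgroup.closure ({lg .a, lg .b, lg .c, lg .d, lg .z} : Set Spor.Ly) := by
    rw [lg_a3]
    repeat' first | exact ha | exact hb | apply mul_mem | apply inv_mem | apply pow_mem
  have ha4 : lg .a4 ∈ Subgroup.closure ({lg .a, lg .b, lg .c, lg .d, lg .z} : Set Spor.Ly) := by
    rw [lg_a4]
    repeat' first | exact ha | exact hb | apply mul_mem | apply inv_mem | apply pow_mem
  have hu : lg .u ∈ Subgroup.closure ({lg .a, lg .b, lg .c, lg .d, lg .z} : Set Spor.Ly) := by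
    rw [lg_u]
    repeat' first | exact ha | apply mul_mem | apply inv_mem | apply pow_mem
  have hx23 : lg .x23 ∈ Subgroup.closure ({lg .a, lg .b, lg .c, lg .d, lg .z} : Set Spor.Ly) := by
    rw [lg_x23]
    repeat' first | exact hd | apply mul_mem | apply inv_mem | apply pow_mem
  have hx24 : lg .x24 ∈ Subgroup.closure ({lg .a, lg .b, lg .c, lg .d, lg .z} : Set Spor.Ly) := by
    rw [lg_x24]
    repeat' first | exact hd | apply mul_mem | apply inv_mem | apply pow_mem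
  have hx25 : lg .x25 ∈ Subgroup.closure ({lg .a, lg .b, lg .c, lg .d, lg .z} : Set Spor.Ly) := by
    rw [lg_x25]
    repeat' first | exact ha | exact hb | exact hc | exact hd | apply mul_mem | apply inv_mem | apply pow_mem
  have hx29 : lg .x29 ∈ Subgroup.closure ({lg .a, lg .b, lg .c, lg .d, lg .z} : Set Spor.Ly) := by
    rw [lg_x29]
    repeat' first | exact ha | exact hb | exact hc | exact hd | apply mul_mem | apply inv_mem | apply pow_mem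
  have hx47 : lg .x47 ∈ Subgroup.closure ({lg .a, lg .b, lg .c, lg .d, lg .z} : Set Spor.Ly) := by
    rw [lg_x47]
    repeat' first | exact ha | exact hb | exact hc | exact hd | apply mul_mem | apply inv_mem | apply pow_mem
  have hx96 : lg .x96 ∈ Subgroup.closure ({lg .a, lg .b, lg .c, lg .d, lg .z} : Set Spor.Ly) := by
    rw [lg_x96]
    repeat' first | exact hb | exact hd | apply mul_mem | apply inv_mem | apply pow_mem
  have hx129 : lg .x129 ∈ Subgroup.closure ({lg .a, lg .b, lg .c, lg .d, lg .z} : Set Spor.Ly) := by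
    rw [lg_x129]
    repeat' first | exact hb | exact hd | apply mul_mem | apply inv_mem | apply pow_mem
  have hx162 : lg .x162 ∈ Subgroup.closure ({lg .a, lg .b, lg .c, lg .d, lg .z} : Set Spor.Ly) := by
    rw [lg_x162]
    repeat' first | exact ha | exact hb | exact hc | apply mul_mem | apply inv_mem | apply pow_mem
  have hx163 : lg .x163 ∈ Subgroup.closure ({lg .a, lg .b, lg .c, lg .d, lg .z} : Set Spor.Ly) := by
    rw [lg_x163]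
    repeat' first | exact ha | exact hb | exact hc | apply mul_mem | apply inv_mem | apply pow_mem
  have hx164 : lg .x164 ∈ Subgroup.closure ({lg .a, lg .b, lg .c, lg .d, lg .z} : Set Spor.Ly) := by
    rw [lg_x164]
    repeat' first | exact ha | exact hb | exact hc | apply mul_mem | apply inv_mem | apply pow_mem
  have hx165 : lg .x165 ∈ Subgroup.closure ({lg .a, lg .b, lg .c, lg .d, lg .z} : Set Spor.Ly) := by
    rw [lg_x165]
    repeat' first | exact ha | exact hb | exact hc | apply mul_mem | apply inv_mem | apply pow_mem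
  have hx166 : lg .x166 ∈ Subgroup.closure ({lg .a, lg .b, lg .c, lg .d, lg .z} : Set Spor.Ly) := by
    rw [lg_x166]
    repeat' first | exact ha | exact hb | exact hc | apply mul_mem | apply inv_mem | apply pow_mem
  have hx167 : lg .x167 ∈ Subgroup.closure ({lg .a, lg .b, lg .c, lg .d, lg .z} : Set Spor.Ly) := by
    rw [lg_x167]
    repeat' first | exact ha | apply mul_mem | apply inv_mem | apply pow_mem
  have hx168 : lg .x168 ∈ Subgroup.closure ({lg .a, lg .b, lg .c, lg .d, lg .z} : Set Spor.Ly) := by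
    rw [lg_x168]
    repeat' first | exact ha | exact hb | apply mul_mem | apply inv_mem | apply pow_mem
  have hx169 : lg .x169 ∈ Subgroup.closure ({lg .a, lg .b, lg .c, lg .d, lg .z} : Set Spor.Ly) := by
    rw [lg_x169]
    repeat' first | exact ha | exact hb | apply mul_mem | apply inv_mem | apply pow_mem
  have hx364 : lg .x364 ∈ Subgroup.closure ({lg .a, lg .b, lg .c, lg .d, lg .z} : Set Spor.Ly) := by
    rw [lg_x364]
    repeat' first | exact ha | exact hb | exact hc | exact hd | apply mul_mem | apply inv_mem | apply pow_mem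
  have hx365 : lg .x365 ∈ Subgroup.closure ({lg .a, lg .b, lg .c, lg .d, lg .z} : Set Spor.Ly) := by
    rw [lg_x365]
    repeat' first | exact ha | exact hb | exact hc | exact hd | apply mul_mem | apply inv_mem | apply pow_mem
  have hx366 : lg .x366 ∈ Subgroup.closure ({lg .a, lg .b, lg .c, lg .d, lg .z} : Set Spor.Ly) := by
    rw [lg_x366]
    repeat' first | exact ha | exact hb | exact hc | exact hd | apply mul_mem | apply inv_mem | apply pow_mem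
  have hx367 : lg .x367 ∈ Subgroup.closure ({lg .a, lg .b, lg .c, lg .d, lg .z} : Set Spor.Ly) := by
    rw [lg_x367]
    repeat' first | exact ha | exact hb | exact hc | exact hd | apply mul_mem | apply inv_mem | apply pow_mem
  have hx368 : lg .x368 ∈ Subgroup.closure ({lg .a, lg .b, lg .c, lg .d, lg .z} : Set Spor.Ly) := by
    rw [lg_x368]
    repeat' first | exact ha | exact hb | exact hc | exact hd | apply mul_mem | apply inv_mem | apply pow_mem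
  have hx369 : lg .x369 ∈ Subgroup.closure ({lg .a, lg .b, lg .c, lg .d, lg .z} : Set Spor.Ly) := by
    rw [lg_x369]
    repeat' first | exact ha | exact hb | exact hc | exact hd | apply mul_mem | apply inv_mem | apply pow_mem
  have hx370 : lg .x370 ∈ Subgroup.closure ({lg .a, lg .b, lg .c, lg .d, lg .z} : Set Spor.Ly) := by
    rw [lg_x370]
    repeat' first | exact ha | exact hb | exact hc | exact hd | apply mul_mem | apply inv_mem | apply pow_mem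
  have hx371 : lg .x371 ∈ Subgroup.closure ({lg .a, lg .b, lg .c, lg .d, lg .z} : Set Spor.Ly) := by
    rw [lg_x371]
    repeat' first | exact ha | exact hb | exact hc | exact hd | apply mul_mem | apply inv_mem | apply pow_mem
  rw [eq_top_iff, ← PresentedGroup.closure_range_of (coxRelators Ly.edges ∪ {r | r ∈ Ly.extra}), Subgroup.closure_le]
  rintro _ ⟨g, rfl⟩
  cases g
  · exact ha
  · exact hb
  · exact hc
  · exact hd
  · exact hz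
  · exact he
  · exact ha1
  · exact ha2
  · exact ha3
  · exact ha4
  · exact hc1
  · exact hc2
  · exact hc3
  · exact hc4
  · exact hc5
  · exact hu
  · exact hx23
  · exact hx24
  · exact hx25
  · exact hx29
  · exact hx47
  · exact hx96
  · exact hx129
  · exact hx162
  · exact hx163
  · exact hx164
  · exact hx165
  · exact hx166
  · exact hx167
  · exact hx168
  · exact hx169
  · exact hx364
  · exact hx365
  · exact hx366
  · exact hx367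
  · exact hx368
  · exact hx369
  · exact hx370
  · exact hx371

end CfsgLib.LyCover50
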