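import Cfsg.Agent.LyCover50.Words

/-!
The identities inside the subgroup generated by a, b, c, d, and the relators in z, that are used
for the Schur multiplier of the Lyons group.
-/

set_option autoImplicit false

namespace CfsgLib.LyCover50

variable {G : Type*} [Group G]

/-- identities among words in a, b, c, d -/
structure Ids (a b c d : G) : Prop where
  a8 : a ^ 8 = 1
  c5 : c ^ 5 = 1
  k3 : (wc3 b c) ^ 5 = 1
  p162 : (wx162 a b c) ^ 5 = 1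
  p164 : (wx164 a b c) ^ 5 = 1
  rel22 : a⁻¹ * wc2 a c * a = (c ^ 2)⁻¹
  rel23 : a⁻¹ * wc3 b c * a = ((wc3 b c) ^ 2)⁻¹ * c * wc4 b c
  rel24 : a⁻¹ * wc4 b c * a =
    c * (wc2 a c)⁻¹ * (wc3 b c)⁻¹ * wc4 b c * c * wc4 b c
  im2 : (wx167 a)⁻¹ * wx162 a b c * wx167 a = wx163 a b c
  im5 : (wx162 a b c)⁻¹ * (wx163 a b c)⁻¹ * wx162 a b c * wx163 a b c = wx166 a b c
  im22 : (wx167 a)⁻¹ * wx163 a b c * wx167 a = ((wx162 a b c) ^ 2)⁻¹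
  im23 : (wx167 a)⁻¹ * wx164 a b c * wx167 a =
    ((wx164 a b c) ^ 2)⁻¹ * wx162 a b c * wx165 a b c
  im24 : (wx167 a)⁻¹ * wx165 a b c * wx167 a = wx162 a b c * (wx163 a b c)⁻¹ *
    (wx164 a b c)⁻¹ * wx165 a b c * wx162 a b c * wx165 a b c
  br12 : wa2 a b * a * wa2 a b = a * wa2 a b * a
  br23 : wa3 a b * wa2 a b * wa3 a b = wa2 a b * wa3 a b * wa2 a b
  r13 : a ^ 3 * wa3 a b * a = wa3 a b
  ibr12 : wx168 a b * wx167 a * wx168 a b = wx167 a * wx168 a b * wx167 a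
  ibr23 : wx169 a b * wx168 a b * wx169 a b = wx168 a b * wx169 a b * wx168 a b
  ir13 : (wx167 a) ^ 3 * wx169 a b * wx167 a = wx169 a b
  a4sq : wa4 a b * wa4 a b = a ^ 2
  a4conj : a⁻¹ * wa4 a b * (a ^ 3)⁻¹ = wa4 a b
  q3 : (wx29 a b c d) ^ 3 = 1
  p3 : (wx369 a b c d) ^ 3 = 1
  ch1 : wx169 a b * wx167 a * (d⁻¹ * (a ^ 2)⁻¹) = d⁻¹ * (a ^ 2)⁻¹ * (a * wa3 a b)
  ch2 : wx167 a * wx169 a b * (wx369 a b c d)⁻¹ = wx369 a b c d * (a * wa3 a b)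
  ch3 : wx167 a * wx169 a b * d = d * (wa3 a b * a)
  ch4 : wx169 a b * wx167 a * ((wx29 a b c d)⁻¹ * (a ^ 2)⁻¹) =
    wx29 a b c d * (a ^ 2)⁻¹ * (wa3 a b * a)

/-- relators 73–82 and 84 -/
structure ZRels (a b c d z : G) : Prop where
  r73 : z⁻¹ * c * z = wx162 a b c
  r74 : z⁻¹ * wc2 a c * z = wx163 a b c
  r75 : z⁻¹ * wc3 b c * z = wx164 a b c
  r76 : z⁻¹ * wc4 b c * z = wx165 a b c
  r77 : z⁻¹ * wc5 a c * z = wx166 a b c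
  r78 : z⁻¹ * a * z = wx167 a
  r79 : z⁻¹ * wa2 a b * z = wx168 a b
  r80 : z⁻¹ * wa3 a b * z = wx169 a b
  r81 : z ^ 2 = a ^ 2
  r82 : (wa4 a b * z) ^ 3 * a ^ 2 = 1
  r84 : z⁻¹ * d⁻¹ * z⁻¹ * wx369 a b c d * z * d * z * wx29 a b c d = 1

end CfsgLib.LyCover50
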