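import Cfsg.Prelude.Def_Spor_Ly
import Mathlib.Tactic

/-!
Words in a, b, c, d for the generators of the presented Lyons group used in the cover argument.
-/

set_option autoImplicit false
set_option linter.unusedSimpArgs false

namespace CfsgLib.LyCover50

section
variable {G : Type*} [Group G] (a b c d : G)

/-- the word for c2 -/
def wc2 : G := (a⁻¹ * c * a)

/-- the word for c3 -/
def wc3 : G := (b⁻¹ * c * b)

/-- the word for c4 -/
def wc4 : G := ((b⁻¹)⁻¹ * c * (b⁻¹))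

/-- the word for c5 -/
def wc5 : G := (c⁻¹ * (wc2 a c)⁻¹ * c * (wc2 a c))

/-- the word for a2 -/
def wa2 : G := ((b⁻¹)⁻¹ * a * (b⁻¹))

/-- the word for a3 -/
def wa3 : G := (((b ^ 2)⁻¹)⁻¹ * a * ((b ^ 2)⁻¹))

/-- the word for a4 -/
def wa4 : G := ((b ^ 2)⁻¹ * a * (b ^ 2))

/-- the word for u -/
def wu : G := (a ^ 2)

/-- the word for x162 -/
def wx162 : G := ((a⁻¹) * (b⁻¹) * (a⁻¹) * b * (c⁻¹) * (b⁻¹) * a * (c⁻¹) * b * a)

/-- the word for x163 -/
def wx163 : G := (((b ^ 2)⁻¹) * a * c * (a⁻¹) * b * c * b)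

/-- the word for x164 -/
def wx164 : G := ((a⁻¹) * (b⁻¹) * (a⁻¹) * c * a * b * a)

/-- the word for x165 -/
def wx165 : G := ((b⁻¹) * (a⁻¹) * b * c * (b⁻¹) * a * b)

/-- the word for x166 -/
def wx166 : G := ((b ^ 2) * (a⁻¹) * (b⁻¹) * c * b * a * c * ((b ^ 2)⁻¹) * (c⁻¹))

/-- the word for x167 -/
def wx167 : G := ((a ^ 3)⁻¹)

/-- the word for x168 -/
def wx168 : G := (b * (a⁻¹) * (b⁻¹) * ((a ^ 2)⁻¹))

/-- the word for x169 -/
def wx169 : G := (a * (b ^ 2) * a * ((b ^ 2)⁻¹) * (a⁻¹))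

/-- the word for x29 -/
def wx29 : G := (a * b * (a⁻¹) * (b ^ 2) * (a⁻¹) * (b ^ 2) * (c⁻¹) * a * c * b * c * (b⁻¹) * d * c * ((b ^ 2)⁻¹) * d * c * b * c)

/-- the word for x369 -/
def wx369 : G := ((a⁻¹) * (c⁻¹) * (d⁻¹) * b * (a⁻¹) * (b⁻¹) * (c⁻¹) * (d⁻¹) * b * (a⁻¹) * (b⁻¹) * (c⁻¹) * (b⁻¹) * a * ((b ^ 2)⁻¹) * a * (b⁻¹))

end

section
variable {G E : Type*} [Group G] [Group E] (φ : G →* E) (a b c d : G)

theorem map_wc2 : φ (wc2 a c) = wc2 (φ a) (φ c) := by
  simp only [wc2, map_mul, map_inv, map_pow]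

theorem map_wc3 : φ (wc3 b c) = wc3 (φ b) (φ c) := by
  simp only [wc3, map_mul, map_inv, map_pow]

theorem map_wc4 : φ (wc4 b c) = wc4 (φ b) (φ c) := by
  simp only [wc4, map_mul, map_inv, map_pow]

theorem map_wc5 : φ (wc5 a c) = wc5 (φ a) (φ c) := by
  simp only [wc5, wc2, map_mul, map_inv, map_pow]

theorem map_wa2 : φ (wa2 a b) = wa2 (φ a) (φ b) := by
  simp only [wa2, map_mul, map_inv, map_pow]

theorem map_wa3 : φ (wa3 a b) = wa3 (φ a) (φ b) := by
  simp only [wa3, map_mul, map_inv, map_pow]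

theorem map_wa4 : φ (wa4 a b) = wa4 (φ a) (φ b) := by
  simp only [wa4, map_mul, map_inv, map_pow]

theorem map_wu : φ (wu a) = wu (φ a) := by
  simp only [wu, map_mul, map_inv, map_pow]

theorem map_wx162 : φ (wx162 a b c) = wx162 (φ a) (φ b) (φ c) := by
  simp only [wx162, map_mul, map_inv, map_pow]

theorem map_wx163 : φ (wx163 a b c) = wx163 (φ a) (φ b) (φ c) := by
  simp only [wx163, map_mul, map_inv, map_pow]

theorem map_wx164 : φ (wx164 a b c) = wx164 (φ a) (φ b) (φ c) := by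
  simp only [wx164, map_mul, map_inv, map_pow]

theorem map_wx165 : φ (wx165 a b c) = wx165 (φ a) (φ b) (φ c) := by
  simp only [wx165, map_mul, map_inv, map_pow]

theorem map_wx166 : φ (wx166 a b c) = wx166 (φ a) (φ b) (φ c) := by
  simp only [wx166, map_mul, map_inv, map_pow]

theorem map_wx167 : φ (wx167 a) = wx167 (φ a) := by
  simp only [wx167, map_mul, map_inv, map_pow]

theorem map_wx168 : φ (wx168 a b) = wx168 (φ a) (φ b) := by
  simp only [wx168, map_mul, map_inv, map_pow]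

theorem map_wx169 : φ (wx169 a b) = wx169 (φ a) (φ b) := by
  simp only [wx169, map_mul, map_inv, map_pow]

theorem map_wx29 : φ (wx29 a b c d) = wx29 (φ a) (φ b) (φ c) (φ d) := by
  simp only [wx29, map_mul, map_inv, map_pow]

theorem map_wx369 : φ (wx369 a b c d) = wx369 (φ a) (φ b) (φ c) (φ d) := by
  simp only [wx369, map_mul, map_inv, map_pow]

end

end CfsgLib.LyCover50
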